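import Cfsg.Agent.Lib.BenderTrans.Main
import Cfsg.Agent.Lib.BenderTrans.Central
import Cfsg.Agent.Lib.BenderTrans.LineFix

/-!
Regular normal `2`-subgroups of point stabilisers, the inductive setting for the complement step,
and fixed points of prime power subgroups of two point stabilisers.
-/

set_option autoImplicit false
set_option linter.style.haveILetI false

namespace CfsgLib.BenderComp

open CfsgLib.Involutions CfsgLib.BenderTrans MulAction Subgroup

universe u

variable {G : Type u} [Group G] {Ω : Type u} [MulAction G Ω]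

/-- A normal `2`-subgroup of the stabiliser of `c` regular on the other points. -/
structure Reg2 (Q : Subgroup G) (c : Ω) : Prop where
  le : Q ≤ stabilizer G c
  normal : stabilizer G c ≤ Subgroup.normalizer (Q : Set G)
  two : IsPGroup 2 Q
  trans : ∀ x y : Ω, x ≠ c → y ≠ c → ∃ g ∈ Q, g • x = y
  free : ∀ g ∈ Q, ∀ x : Ω, x ≠ c → g • x = x → g = 1

namespace Reg2

variable [Finite G] {Q : Subgroup G} {c : Ω} (hQ : Reg2 Q c) (h : OneFix G Ω)
include hQ h

/-- Elements of `2`-power order fixing `c` lie in `Q`. -/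
theorem mem_of_two_pow {g : G} (hg : g • c = c) {k : ℕ} (hk : g ^ 2 ^ k = 1) : g ∈ Q := by
  obtain ⟨x, hx⟩ := h.nontriv c
  have hgx : g • x ≠ c := fun e => hx (MulAction.injective g (e.trans hg.symm))
  obtain ⟨q, hq, hqx⟩ := hQ.trans x (g • x) hx hgx
  have hd : q⁻¹ * g ∈ BenderTrans.two G c x := mem_two_iff.2
    ⟨by rw [mul_smul, hg]; exact (inv_mem (hQ.le hq) : q⁻¹ ∈ stabilizer G c),
      by rw [mul_smul, ← hqx, inv_smul_smul]⟩
  set T := stabilizer G c with hT
  haveI : (Q.subgroupOf T).Normal := (Subgroup.normal_subgroupOf_iff_le_normalizer hQ.le).2 hQ.normal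
  set d : T := ⟨q⁻¹ * g, (mem_two_iff.1 hd).1⟩ with hd'
  set n := Nat.card (BenderTrans.two G c x) with hn
  have hdn : d ^ n = 1 := Subtype.ext (by
    rw [hd', SubmonoidClass.coe_pow, OneMemClass.coe_one, hn]
    exact orderOf_dvd_iff_pow_eq_one.1 (Subgroup.orderOf_dvd_natCard _ hd))
  have hgn : g ^ n ∈ Q := by
    have h1 : QuotientGroup.mk' (Q.subgroupOf T) ⟨g, hg⟩ = QuotientGroup.mk' (Q.subgroupOf T) d := by
      rw [QuotientGroup.mk'_eq_mk']
      refine ⟨(⟨g, hg⟩ : T)⁻¹ * d, ?_, by group⟩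
      rw [mem_subgroupOf]
      have h2 := (Subgroup.mem_normalizer_iff.1 (hQ.normal (inv_mem (show g ∈ T from hg))) q⁻¹).1
        (inv_mem hq)
      rw [inv_inv] at h2
      show g⁻¹ * (q⁻¹ * g) ∈ Q
      rwa [← mul_assoc]
    have h3 := congrArg (· ^ n) h1
    rw [← map_pow, ← map_pow, hdn, map_one, QuotientGroup.mk'_apply, QuotientGroup.eq_one_iff,
      mem_subgroupOf] at h3
    exact h3
  obtain ⟨m, hm⟩ := exists_pow_eq_self_of_coprime (x := g) (n := n) (by
    refine ((Nat.Coprime.pow_left k ?_).coprime_dvd_left (orderOf_dvd_of_pow_eq_one hk)).symm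
    exact Nat.coprime_two_left.2 (h.odd_two hx.symm))
  exact hm ▸ pow_mem hgn m

/-- The involutions fixing `c` are central in `Q`. -/
theorem commute {s q : G} (hs : s ∈ invAt G c) (hq : q ∈ Q) : Commute q s := by
  have hmem : ∀ t ∈ invAt G c, t ∈ Q := fun t ht => hQ.mem_of_two_pow h ht.2 (k := 1) (by
    rw [pow_one, pow_two]; exact mul_self_eq_one ht.1)
  haveI : Nontrivial Q := ⟨⟨s, hmem s hs⟩, 1, fun e => ne_one_of_involution hs.1
    (congrArg Subtype.val e)⟩
  haveI := Fact.mk Nat.prime_two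
  haveI : Nontrivial (center Q) := hQ.two.center_nontrivial
  have hev : 2 ∣ Nat.card (center Q) := by
    obtain ⟨k, hk⟩ := (hQ.two.to_subgroup (center Q)).exists_card_eq
    rw [hk]
    refine dvd_pow_self 2 fun e => ?_
    rw [e, pow_zero] at hk
    exact (Finite.one_lt_card (α := center Q)).ne' hk
  obtain ⟨u, hu⟩ := exists_prime_orderOf_dvd_card' (G := center Q) 2 hev
  have hu' : ((u : Q) : G) ∈ invAt G c :=
    ⟨by rw [Subgroup.orderOf_coe, Subgroup.orderOf_coe, hu], hQ.le (u : Q).2⟩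
  obtain ⟨y, hy⟩ := h.nontriv c
  obtain ⟨d, hd, hds⟩ := h.exists_conj_invAt hy.symm hu' hs
  have h1 := (Subgroup.mem_normalizer_iff.1 (hQ.normal (inv_mem (mem_two_iff.1 hd).1)) q).1 hq
  rw [inv_inv] at h1
  have h2 : (d⁻¹ * q * d) * ((u : Q) : G) = ((u : Q) : G) * (d⁻¹ * q * d) :=
    congrArg (fun z : Q => (z : G)) (Subgroup.mem_center_iff.1 u.2 ⟨_, h1⟩)
  rw [← hds]
  show q * (d * _ * d⁻¹) = d * _ * d⁻¹ * q
  calc q * (d * ((u : Q) : G) * d⁻¹) = d * ((d⁻¹ * q * d) * ((u : Q) : G)) * d⁻¹ := by group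
    _ = d * (((u : Q) : G) * (d⁻¹ * q * d)) * d⁻¹ := by rw [h2]
    _ = _ := by group

/-- The number of further points is a power of two. -/
theorem ncard_ne : ∃ i : ℕ, {x : Ω | x ≠ c}.ncard = 2 ^ i := by
  haveI := Fact.mk Nat.prime_two
  obtain ⟨i, hi⟩ := hQ.two.exists_card_eq
  obtain ⟨z, hz⟩ := h.nontriv c
  refine ⟨i, ?_⟩
  rw [← hi, ← Nat.card_coe_set_eq]
  refine (Nat.card_congr (Equiv.ofBijective (fun g : Q => (⟨(g : G) • z, fun e => hz
    (MulAction.injective (g : G) (e.trans (hQ.le g.2).symm))⟩ : {x : Ω | x ≠ c})) ⟨?_, ?_⟩)).symm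
  · intro g g' e
    have e' : (g : G) • z = (g' : G) • z := congrArg Subtype.val e
    refine Subtype.ext (inv_mul_eq_one.1 (hQ.free _ (mul_mem (inv_mem g'.2) g.2) z hz ?_)).symm
    rw [mul_smul, e', inv_smul_smul]
  · intro x
    obtain ⟨g, hg, hgx⟩ := hQ.trans z x hz x.2
    exact ⟨⟨g, hg⟩, Subtype.ext hgx⟩

end Reg2

/-- A conjugation invariant set of size prime to `p` has a member centralised by a `p`-group. -/
theorem exists_commute_of_not_dvd [Finite G] {p : ℕ} [Fact p.Prime] {S : Subgroup G}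
    (hS : IsPGroup p S) {A : Set G} (hA : ∀ g ∈ S, ∀ a ∈ A, g * a * g⁻¹ ∈ A) (hp : ¬ p ∣ A.ncard) :
    ∃ a ∈ A, ∀ g ∈ S, Commute g a := by
  letI : MulAction S A :=
    { smul := fun g a => ⟨(g : G) * a * (g : G)⁻¹, hA g g.2 a a.2⟩
      one_smul := fun a => Subtype.ext (show (1 : G) * a * (1 : G)⁻¹ = a by simp)
      mul_smul := fun g g' a => Subtype.ext (show ((g : G) * g') * a * ((g : G) * g')⁻¹ =
        (g : G) * ((g' : G) * a * (g' : G)⁻¹) * (g : G)⁻¹ by group) }
  obtain ⟨a, ha⟩ := hS.nonempty_fixed_point_of_prime_not_dvd_card A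
    (by rwa [Nat.card_coe_set_eq])
  exact ⟨a, a.2, fun g hg => mul_inv_eq_iff_eq_mul.1 (congrArg Subtype.val (ha ⟨g, hg⟩))⟩

variable (G Ω) in
/-- The setting: commuting involutions at each point, and regular normal `2`-subgroups in the proper
sections. -/
structure Cx : Prop where
  base : OneFix G Ω
  faith : ∀ g : G, (∀ x : Ω, g • x = x) → g = 1
  four : HasFour G
  solv : ∀ X : Type u, ∀ _ : Group X, ∀ _ : Finite X, Odd (Nat.card X) → Group.IsSolvable X
  comm : ∀ c : Ω, ∀ s ∈ invAt G c, ∀ t ∈ invAt G c, Commute s t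
  hsect : ∀ M : Subgroup G, M ≠ ⊤ → Multi Ω M → FourIn M → ∀ a : centres Ω M,
    ∃ Q : Subgroup (Sect Ω M), Reg2 Q a

namespace Cx

variable [Finite G] [Finite Ω] (C : Cx G Ω)
include C

theorem concl : Concl G Ω :=
  concl_of_card_le _ G Ω le_rfl C.solv C.base C.faith C.four

theorem central (q : ℕ) [Fact q.Prime] : CentralFor G Ω q :=
  central_of_card_le _ G Ω le_rfl C.solv C.base C.faith C.four q

omit [Finite G] [Finite Ω] in
theorem centralizer_ne_top {S : Subgroup G} (hne : S ≠ ⊥) {c z : Ω}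
    (hS : S ≤ BenderTrans.two G c z) : Subgroup.centralizer (S : Set G) ≠ ⊤ := by
  intro e
  refine hne ((Subgroup.eq_bot_iff_forall S).2 fun s hs => C.faith s fun x => ?_)
  obtain ⟨g, rfl⟩ := C.base.trans c x
  have h1 : s * g = g * s := Subgroup.mem_centralizer_iff.1 (e ▸ mem_top g) s hs
  rw [smul_smul, h1, mul_smul, (mem_two_iff.1 (hS hs)).1]

/-- The fixed points of a `p`-group centralising an involution are the centres of its centraliser. -/
theorem centres_eq {p : ℕ} [Fact p.Prime] {S : Subgroup G} (hSp : IsPGroup p S) {c z : Ω}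
    (hzc : z ≠ c) (hS : S ≤ BenderTrans.two G c z) {u : G} (hu : u ∈ invAt G c)
    (hcu : ∀ g ∈ S, Commute g u) :
    centres Ω (Subgroup.centralizer (S : Set G)) = fixSet Ω S ∧
      c ∈ fixSet Ω S ∧ z ∈ fixSet Ω S ∧ Multi Ω (Subgroup.centralizer (S : Set G)) := by
  have hc : c ∈ fixSet Ω S := fun g hg => (mem_two_iff.1 (hS hg)).1
  have hz : z ∈ fixSet Ω S := fun g hg => (mem_two_iff.1 (hS hg)).2
  have huS : u ∈ Subgroup.centralizer (S : Set G) :=
    Subgroup.mem_centralizer_iff.2 fun g hg => (hcu g hg).eq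
  have key : centres Ω (Subgroup.centralizer (S : Set G)) = fixSet Ω S := by
    by_cases hd : p ∣ (invAt G c).ncard
    · have X : Ctx G Ω p := ⟨C.base, C.faith, C.four, C.concl,
        fun x => C.base.ncard_invAt_eq x c ▸ hd, C.solv⟩
      refine (X.lineFix (C.central p) hSp ((Set.two_lt_ncard (Set.toFinite _)).2
        ⟨c, hc, z, hz, u • z, ?_, hzc.symm, ?_, ?_⟩)).2
      · exact smul_mem_fixSet (Subgroup.centralizer_le_normalizer _ huS) hz
      · exact fun e => hzc (MulAction.injective u (e.symm.trans hu.2.symm))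
      · exact fun e => hzc (C.base.unique u hu.1 _ _ e.symm hu.2)
    refine Set.Subset.antisymm ?_ fun x hx => ?_
    · rintro x ⟨t, htC, ht, htx⟩ s hs
      exact C.base.fix_of_commute ⟨ht, htx⟩ (htC s hs)
    rcases eq_or_ne x c with rfl | hxc
    · exact mem_centres huS hu
    obtain ⟨r, hr, hrS⟩ := exists_commute_of_not_dvd hSp (A := swaps G c x)
      (fun g hg r hr => by
        have h1 := conj_mem_swaps (g := g) hr
        rwa [hc g hg, hx g hg] at h1)
      (by rwa [C.base.ncard_swaps hxc.symm])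
    have hrC : r ∈ Subgroup.centralizer (S : Set G) :=
      Subgroup.mem_centralizer_iff.2 fun g hg => (hrS g hg).eq
    have h2 := conj_mem_invAt (g := r) hu
    rw [hr.2] at h2
    exact mem_centres (mul_mem (mul_mem hrC huS) (inv_mem hrC)) h2
  exact ⟨key, hc, hz, c, key ▸ hc, z, key ▸ hz, hzc.symm⟩

/-- Lifting the regular subgroup of the section of a centraliser: a centralising `2`-element moving
`z` to a given fixed point, centralising the commuting involutions and commuting with anything that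
normalises the centraliser and fixes the three points. -/
theorem exists_lift {p : ℕ} [Fact p.Prime] {S : Subgroup G} (hSp : IsPGroup p S) (hne : S ≠ ⊥)
    {c z : Ω} (hzc : z ≠ c) (hS : S ≤ BenderTrans.two G c z) {s t : G} (hs : s ∈ invAt G c)
    (ht : t ∈ invAt G c) (hst : s ≠ t) (hsS : ∀ g ∈ S, Commute g s) (htS : ∀ g ∈ S, Commute g t)
    {w : Ω} (hw : w ∈ fixSet Ω S) (hwc : w ≠ c) :
    ∃ g ∈ Subgroup.centralizer (S : Set G), g • c = c ∧ g • z = w ∧ (∃ k : ℕ, g ^ 2 ^ k = 1) ∧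
      (∀ e ∈ invAt G c, (∀ a ∈ S, Commute a e) → Commute g e) ∧
      ∀ x : G, x ∈ Subgroup.normalizer (Subgroup.centralizer (S : Set G) : Set G) →
        x • c = c → x • z = z → x • w = w → Commute x g := by
  classical
  obtain ⟨hcen, hc, hz, hM⟩ := C.centres_eq hSp hzc hS hs hsS
  set M := Subgroup.centralizer (S : Set G) with hMdef
  have hMtop : M ≠ ⊤ := C.centralizer_ne_top hne hS
  have hsM : s ∈ M := Subgroup.mem_centralizer_iff.2 fun g hg => (hsS g hg).eq
  have htM : t ∈ M := Subgroup.mem_centralizer_iff.2 fun g hg => (htS g hg).eq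
  have hM4 : FourIn M := ⟨s, hsM, t, htM, hs.1, ht.1, hst, C.comm c s hs t ht⟩
  set W := Subgroup.closure {i : G | i ∈ M ∧ orderOf i = 2} with hW
  have hWM : W ≤ M := (Subgroup.closure_le M).2 fun i hi => hi.1
  have hiW : ∀ {i : G}, i ∈ M → orderOf i = 2 → i ∈ W := fun h1 h2 =>
    Subgroup.subset_closure ⟨h1, h2⟩
  have hcW : centres Ω W = centres Ω M := Set.Subset.antisymm
    (fun x ⟨i, hiW', hi⟩ => mem_centres (hWM hiW') hi)
    (fun x ⟨i, hiM, hi⟩ => mem_centres (hiW hiM hi.1) hi)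
  have hW4 : FourIn W := ⟨s, hiW hsM hs.1, t, hiW htM ht.1, hs.1, ht.1, hst, C.comm c s hs t ht⟩
  have hWmulti : Multi Ω W := by
    obtain ⟨a, ha, b, hb, hab⟩ := hM
    exact ⟨a, hcW ▸ ha, b, hcW ▸ hb, hab⟩
  have hone : ∀ {j : G}, j ∈ kerIn Ω M → j * j = 1 → j = 1 := fun {j} hj hj2 => by
    have h1 : orderOf j ∣ 2 := orderOf_dvd_of_pow_eq_one (by rw [pow_two]; exact hj2)
    have h2 : Odd (orderOf j) :=
      (C.base.odd_kerIn hM).of_dvd_nat (Subgroup.orderOf_dvd_natCard _ hj)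
    rcases (Nat.dvd_prime Nat.prime_two).1 h1 with e | e
    · exact orderOf_eq_one_iff.1 e
    · rw [e] at h2; exact absurd h2 (by decide)
  have hcommInv : ∀ {a b : G} {x : Ω}, a ∈ invAt G x → b ∈ invAt G x → a * b ∈ kerIn Ω M →
      a = b := fun {a b x} ha hb hab => by
    have h2 : a * b * (a * b) = 1 := by
      calc a * b * (a * b) = a * (b * a) * b := by group
        _ = (a * a) * (b * b) := by rw [(C.comm x b hb a ha).eq]; group
        _ = 1 := by rw [mul_self_eq_one ha.1, mul_self_eq_one hb.1, one_mul]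
    rw [eq_inv_of_mul_eq_one_left (hone hab h2), inv_eq_self_of_involution hb.1]
  -- the kernel centralises `W`
  have hker : ∀ n ∈ kerIn Ω M, W ≤ Subgroup.centralizer ({n} : Set G) := by
    intro n hn
    refine (Subgroup.closure_le _).2 fun i ⟨hiM, hi⟩ => ?_
    obtain ⟨a, ha⟩ := C.base.exists_fix i hi
    have hna : n • a = a := (mem_kerIn.1 hn).2 a (mem_centres hiM ⟨hi, ha⟩)
    have h1 := conj_mem_invAt (g := n) (show i ∈ invAt G a from ⟨hi, ha⟩)
    rw [hna] at h1
    have h2 : n * i * n⁻¹ * i ∈ kerIn Ω M := by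
      have h3 := Coprime.mem_normalizer_conj (le_normalizer_kerIn (Ω := Ω) M hiM)
        (inv_mem hn)
      rw [inv_eq_self_of_involution hi] at h3
      have h4 := mul_mem hn h3
      simpa [mul_assoc] using h4
    have h5 := hcommInv h1 ⟨hi, ha⟩ h2
    exact Subgroup.mem_centralizer_singleton_iff.2 ((mul_inv_eq_iff_eq_mul.1 h5).symm)
  -- lift
  let cW : centres Ω W := ⟨c, hcW ▸ hcen ▸ hc⟩
  let zW : centres Ω W := ⟨z, hcW ▸ hcen ▸ hz⟩
  let wW : centres Ω W := ⟨w, hcW ▸ hcen ▸ hw⟩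
  obtain ⟨QW, hQW⟩ := C.hsect W (fun e => hMtop (top_le_iff.1 (e ▸ hWM))) hWmulti hW4 cW
  obtain ⟨q, hq, hqz⟩ := hQW.trans zW wW (fun e => hzc (congrArg Subtype.val e))
    (fun e => hwc (congrArg Subtype.val e))
  haveI := Fact.mk Nat.prime_two
  obtain ⟨i, hi⟩ := hQW.two ⟨q, hq⟩
  have hqi : q ^ 2 ^ i = 1 := by
    have := congrArg Subtype.val hi
    simpa using this
  obtain ⟨m, hm⟩ := sect_surjective W q
  obtain ⟨k, o, ho, hko⟩ := Nat.exists_eq_pow_mul_and_not_dvd (orderOf_pos m).ne' 2 (by norm_num)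
  obtain ⟨j, hj⟩ := exists_pow_eq_self_of_coprime (x := q) (n := o) (by
    refine ((Nat.Coprime.pow_left i ?_).coprime_dvd_left (orderOf_dvd_of_pow_eq_one hqi)).symm
    exact (Nat.coprime_or_dvd_of_prime Nat.prime_two o).resolve_right ho)
  set g : G := ((m ^ (o * j) : W) : G) with hg
  have hgimg : sect Ω W (m ^ (o * j)) = q := by rw [map_pow, hm, pow_mul, hj]
  have hgk : g ^ 2 ^ k = 1 := by
    rw [hg, ← SubmonoidClass.coe_pow, ← pow_mul, mul_comm, ← mul_assoc, ← hko, pow_mul,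
      pow_orderOf_eq_one, one_pow, OneMemClass.coe_one]
  have hgW : g ∈ W := (m ^ (o * j)).2
  have hgc : g • c = c := by
    have := congrArg Subtype.val (hgimg ▸ (hQW.le hq : q • cW = cW))
    exact this
  have hgz : g • z = w := congrArg Subtype.val (hgimg ▸ hqz)
  -- the section of `M`
  let cM : centres Ω M := ⟨c, hcen ▸ hc⟩
  obtain ⟨QM, hQM⟩ := C.hsect M hMtop hM hM4 cM
  have h1M := C.base.oneFix_sect hM
  have himg : ∀ {a : G} (haM : a ∈ M), a • c = c → ∀ {l : ℕ}, a ^ 2 ^ l = 1 →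
      sect Ω M ⟨a, haM⟩ ∈ QM := fun {a} haM hac {l} hal =>
    hQM.mem_of_two_pow h1M (Subtype.ext hac) (k := l) (by
      rw [← map_pow]
      exact (congrArg (sect Ω M) (Subtype.ext (by simpa using hal) : (⟨a, haM⟩ : M) ^ 2 ^ l = 1)).trans
        (map_one _))
  refine ⟨g, hWM hgW, hgc, hgz, ⟨k, hgk⟩, fun e he heS => ?_, fun x hxM hxc hxz hxw => ?_⟩
  · have heM : e ∈ M := Subgroup.mem_centralizer_iff.2 fun a ha => (heS a ha).eq
    have h3 := hQM.commute h1M (C.base.sect_mem_invAt hM heM (c := cM) he) (himg (hWM hgW) hgc hgk)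
    rw [commute_sect_iff] at h3
    have h4 := conj_mem_invAt (g := g) he
    rw [hgc] at h4
    rw [inv_eq_self_of_involution he.1] at h3
    exact mul_inv_eq_iff_eq_mul.1 (hcommInv h4 he h3)
  · set g' := x * g * x⁻¹ with hg'
    have hg'M : g' ∈ M := Coprime.mem_normalizer_conj hxM (hWM hgW)
    have hg'c : g' • c = c := by
      rw [hg', mul_smul, mul_smul, inv_smul_eq_iff.2 hxc.symm, hgc, hxc]
    have hg'z : g' • z = w := by
      rw [hg', mul_smul, mul_smul, inv_smul_eq_iff.2 hxz.symm, hgz, hxw]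
    have hg'k : g' ^ 2 ^ k = 1 := by rw [hg', conj_pow, hgk, mul_one, mul_inv_cancel]
    set a := sect Ω M ⟨g, hWM hgW⟩
    set b := sect Ω M ⟨g', hg'M⟩
    let zM : centres Ω M := ⟨z, hcen ▸ hz⟩
    have hab : a⁻¹ * b = 1 := hQM.free _ (mul_mem (inv_mem (himg (hWM hgW) hgc hgk))
      (himg hg'M hg'c hg'k)) zM (fun e => hzc (congrArg Subtype.val e)) (by
        rw [mul_smul, inv_smul_eq_iff]
        exact Subtype.ext (hg'z.trans hgz.symm))
    set n := g⁻¹ * g' with hn
    have hnK : n ∈ kerIn Ω M := (sect_eq_one_iff_kerIn (mul_mem (inv_mem (hWM hgW)) hg'M)).1 (by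
      rw [← hab]
      exact (map_mul (sect Ω M) (⟨g, hWM hgW⟩ : M)⁻¹ ⟨g', hg'M⟩).trans
        (congrArg (· * b) (map_inv (sect Ω M) ⟨g, hWM hgW⟩)))
    have hng : Commute n g := ((Subgroup.mem_centralizer_singleton_iff.1 (hker n hnK hgW))).symm
    have hn1 : n ^ 2 ^ k = 1 := by
      rw [hn] at hng ⊢
      have e : g' = g * (g⁻¹ * g') := by group
      have := hg'k
      rw [e, hng.symm.mul_pow, hgk, one_mul] at this
      exact this
    have hn0 : n = 1 := by
      have h5 : Odd (orderOf n) :=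
        (C.base.odd_kerIn hM).of_dvd_nat (Subgroup.orderOf_dvd_natCard _ hnK)
      obtain ⟨l, -, hl⟩ := (Nat.dvd_prime_pow Nat.prime_two).1 (orderOf_dvd_of_pow_eq_one hn1)
      rcases Nat.eq_zero_or_pos l with e | e
      · exact orderOf_eq_one_iff.1 (by rw [hl, e, pow_zero])
      · rw [hl] at h5
        exact absurd h5 (Nat.not_odd_iff_even.2 ((even_iff_two_dvd).2 (dvd_pow_self 2 e.ne')))
    have : g' = g := (inv_mul_eq_one.1 hn0).symm
    exact mul_inv_eq_iff_eq_mul.1 this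

end Cx

end CfsgLib.BenderComp
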