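import Cfsg.Agent.Lib.BenderComp.Base

/-!
Fixed points of centralised groups are one more than a power of two, and the index of a two point
stabiliser in groups containing the lifts; the case of a nontrivial centraliser of all the involutions.
-/

set_option autoImplicit false
set_option linter.style.haveILetI false

namespace CfsgLib.BenderComp

open CfsgLib.Involutions CfsgLib.OddOrder CfsgLib.BenderTrans MulAction Subgroup

universe u

variable {G : Type u} [Group G] {Ω : Type u} [MulAction G Ω]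

variable (G) in
/-- The elements fixing `c` and centralising every involution with centre `c`. -/
def cenInv (c : Ω) : Subgroup G := stabilizer G c ⊓ Subgroup.centralizer (invAt G c)

theorem mem_cenInv {c : Ω} {g : G} :
    g ∈ cenInv G c ↔ g • c = c ∧ ∀ t ∈ invAt G c, Commute g t :=
  and_congr Iff.rfl ⟨fun h t ht => ((Subgroup.mem_centralizer_iff.1 h) t ht).symm,
    fun h => Subgroup.mem_centralizer_iff.2 fun t ht => (h t ht).symm⟩

theorem conj_mem_cenInv {c : Ω} {g k : G} (hg : g • c = c) (hk : k ∈ cenInv G c) :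
    g * k * g⁻¹ ∈ cenInv G c := by
  rw [mem_cenInv] at hk ⊢
  refine ⟨by rw [mul_smul, mul_smul, inv_smul_eq_iff.2 hg.symm, hk.1, hg], fun t ht => ?_⟩
  have h1 := conj_mem_invAt (g := g⁻¹) ht
  rw [inv_inv, inv_smul_eq_iff.2 hg.symm] at h1
  have h2 := (hk.2 _ h1).map (MulAut.conj g).toMonoidHom
  simp only [MulEquiv.coe_toMonoidHom, MulAut.conj_apply] at h2
  rwa [show g * (g⁻¹ * t * g) * g⁻¹ = t by group] at h2

variable [Finite G] [Finite Ω] (C : Cx G Ω)
include C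

theorem Cx.fix_count {p : ℕ} [Fact p.Prime] {S : Subgroup G} (hSp : IsPGroup p S) (hne : S ≠ ⊥)
    {c z : Ω} (hzc : z ≠ c) (hS : S ≤ BenderTrans.two G c z) {s t : G} (hs : s ∈ invAt G c)
    (ht : t ∈ invAt G c) (hst : s ≠ t) (hsS : ∀ g ∈ S, Commute g s) (htS : ∀ g ∈ S, Commute g t) :
    ∃ i : ℕ, (fixSet Ω S \ {c}).ncard = 2 ^ i := by
  obtain ⟨hcen, hc, hz, hM⟩ := C.centres_eq hSp hzc hS hs hsS
  set M := Subgroup.centralizer (S : Set G) with hMdef
  have hsM : s ∈ M := Subgroup.mem_centralizer_iff.2 fun g hg => (hsS g hg).eq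
  have htM : t ∈ M := Subgroup.mem_centralizer_iff.2 fun g hg => (htS g hg).eq
  obtain ⟨Q, hQ⟩ := C.hsect M (C.centralizer_ne_top hne hS) hM
    ⟨s, hsM, t, htM, hs.1, ht.1, hst, C.comm c s hs t ht⟩ ⟨c, hcen ▸ hc⟩
  obtain ⟨i, hi⟩ := hQ.ncard_ne (C.base.oneFix_sect hM)
  refine ⟨i, ?_⟩
  rw [← hi, ← Set.ncard_image_of_injective _ Subtype.val_injective]
  congr 1
  ext x
  simp only [Set.mem_sdiff, Set.mem_singleton_iff, Set.mem_image, Set.mem_ofPred_eq]
  constructor
  · rintro ⟨hx, hxc⟩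
    exact ⟨⟨x, hcen ▸ hx⟩, fun e => hxc (congrArg Subtype.val e), rfl⟩
  · rintro ⟨⟨y, hy⟩, hyc, rfl⟩
    exact ⟨hcen ▸ hy, fun e => hyc (Subtype.ext e)⟩

omit C in
omit [Finite G] in
/-- A group fixing `c` in which the lifts move `z` to every fixed point of `S` has a two point
stabiliser of index prime to `p`. -/
theorem not_dvd_relIndex {p : ℕ} [hp : Fact p.Prime] {B S : Subgroup G} {c z : Ω}
    (hB : B ≤ stabilizer G c) (hSp : IsPGroup p S) (hSB : S ≤ B) (hzc : z ≠ c)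
    (hcover : ∀ w ∈ fixSet Ω S, w ≠ c → ∃ g ∈ B, g • z = w)
    (hcount : ¬ p ∣ (fixSet Ω S \ {c}).ncard) :
    ¬ p ∣ (BenderTrans.two G c z).relIndex B := by
  have h1 : (BenderTrans.two G c z).relIndex B = (MulAction.orbit B z).ncard := by
    rw [← MulAction.index_stabilizer]
    refine congrArg Subgroup.index ?_
    ext g
    rw [mem_subgroupOf, mem_two_iff, mem_stabilizer_iff]
    exact ⟨fun h => h.2, fun h => ⟨hB g.2, h⟩⟩
  rw [h1]
  intro hdvd
  apply hcount
  have hSB' : IsPGroup p (S.subgroupOf B) := hSp.comap_subtype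
  have hmod := hSB'.card_modEq_card_fixedPoints (MulAction.orbit B z)
  rw [Nat.card_coe_set_eq (MulAction.orbit B z)] at hmod
  have hcard : Nat.card (MulAction.fixedPoints (S.subgroupOf B) (MulAction.orbit B z)) =
      (fixSet Ω S \ {c}).ncard := by
    rw [← Nat.card_coe_set_eq (fixSet Ω S \ {c})]
    refine Nat.card_congr (Equiv.ofBijective (fun x => ⟨((x.1 : MulAction.orbit B z) : Ω), ?_, ?_⟩)
      ⟨fun a b e => Subtype.ext (Subtype.ext (congrArg (fun y : ↥(fixSet Ω S \ {c}) => (y : Ω)) e)), fun y => ?_⟩)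
    · intro g hg
      exact congrArg Subtype.val (x.2 ⟨⟨g, hSB hg⟩, mem_subgroupOf.2 hg⟩)
    · obtain ⟨⟨_, g, rfl⟩, -⟩ := x
      intro e
      exact hzc (MulAction.injective (g : G) ((Set.mem_singleton_iff.1 e).trans (hB g.2).symm))
    · obtain ⟨g, hg, hgz⟩ := hcover y y.2.1 y.2.2
      exact ⟨⟨⟨y, ⟨⟨g, hg⟩, hgz⟩⟩, fun s => Subtype.ext (y.2.1 _ (mem_subgroupOf.1 s.2))⟩,
        Subtype.ext rfl⟩
  rw [hcard] at hmod
  exact (Nat.modEq_zero_iff_dvd).1 (hmod.symm.trans (Nat.modEq_zero_iff_dvd.2 hdvd))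

/-- A nontrivial element centralising all involutions at `c` splits the point stabiliser. -/
theorem Cx.decomp_of_cenInv {c z : Ω} (hzc : z ≠ c)
    (hC0 : BenderTrans.two G c z ⊓ cenInv G c ≠ ⊥) :
    ∀ g ∈ stabilizer G c, ∃ k ∈ cenInv G c, ∃ d ∈ BenderTrans.two G c z, g = k * d := by
  set D := BenderTrans.two G c z with hD
  set C0 := D ⊓ cenInv G c with hC0def
  set K := cenInv G c with hK
  obtain ⟨p, hp, hpd⟩ := Nat.exists_prime_and_dvd (show Nat.card C0 ≠ 1 from fun e =>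
    hC0 (Subgroup.card_eq_one.1 e))
  haveI := Fact.mk hp
  have hp2 : p ≠ 2 := by
    rintro rfl
    exact Nat.not_even_iff_odd.2 ((C.base.odd_two hzc.symm).of_dvd_nat
      (Subgroup.card_dvd_of_le inf_le_left)) (even_iff_two_dvd.2 hpd)
  obtain ⟨s, t, hs, ht, hst, -⟩ := C.base.exists_invAt_ne C.four c
  have hlift : ∀ S : Subgroup G, IsPGroup p S → S ≠ ⊥ → S ≤ C0 →
      (∀ w ∈ fixSet Ω S, w ≠ c → ∃ g ∈ K, g • z = w ∧ g ∈ Subgroup.centralizer (S : Set G)) ∧
      ∃ i : ℕ, (fixSet Ω S \ {c}).ncard = 2 ^ i := by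
    intro S hSp hne hS
    have hcom : ∀ e ∈ invAt G c, ∀ a ∈ S, Commute a e := fun e he a ha =>
      (mem_cenInv.1 (hS ha).2).2 e he
    refine ⟨fun w hw hwc => ?_, C.fix_count hSp hne hzc (hS.trans inf_le_left) hs ht hst
      (hcom s hs) (hcom t ht)⟩
    obtain ⟨g, hgS, hgc, hgz, -, hge, -⟩ := C.exists_lift hSp hne hzc (hS.trans inf_le_left) hs ht
      hst (hcom s hs) (hcom t ht) hw hwc
    exact ⟨g, mem_cenInv.2 ⟨hgc, fun e he => hge e he (hcom e he)⟩, hgz, hgS⟩
  obtain ⟨x, hx⟩ := exists_prime_orderOf_dvd_card' (G := C0) p hpd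
  have hxo : orderOf (x : G) = p := by rw [Subgroup.orderOf_coe, hx]
  have hS1p : IsPGroup p (Subgroup.zpowers (x : G)) :=
    IsPGroup.of_card (n := 1) (by rw [Nat.card_zpowers, hxo, pow_one])
  have hS1 : Subgroup.zpowers (x : G) ≠ ⊥ := by
    rw [ne_eq, Subgroup.zpowers_eq_bot]
    intro e; rw [e, orderOf_one] at hxo; exact hp.ne_one hxo.symm
  obtain ⟨hcov, i, hi⟩ := hlift _ hS1p hS1 (Subgroup.zpowers_le.2 x.2)
  have hzS : ∀ {S : Subgroup G}, S ≤ C0 → z ∈ fixSet Ω S := fun hS a ha =>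
    (mem_two_iff.1 (hS ha).1).2
  have hidx : ¬ p ∣ D.relIndex K := not_dvd_relIndex inf_le_left hS1p
    (Subgroup.zpowers_le.2 x.2.2) hzc
    (fun w hw hwc => let ⟨g, hg, hgz, _⟩ := hcov w hw hwc; ⟨g, hg, hgz⟩)
    (by
      rw [hi]
      exact fun h => hp2 ((Nat.prime_dvd_prime_iff_eq hp Nat.prime_two).1 (hp.dvd_of_dvd_pow h)))
  obtain ⟨P, hP, -⟩ := exists_sylowOf_ge (M := C0) (Q := (⊥ : Subgroup G)) bot_le
    (IsPGroup.of_bot (p := p) (G := G))
  have hfact : (Nat.card K).factorization p = (Nat.card C0).factorization p := by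
    have h1 : Nat.card C0 * D.relIndex K = Nat.card K := by
      rw [hC0def, ← inf_relIndex_right D K, ← Subgroup.card_mul_index ((D ⊓ K).subgroupOf K),
        ← Nat.card_congr (Subgroup.subgroupOfEquivOfLe (inf_le_right : D ⊓ K ≤ K)).toEquiv]
      rfl
    rw [← h1, Nat.factorization_mul Nat.card_pos.ne'
      (fun e => hidx (by rw [e]; exact dvd_zero p)), Finsupp.add_apply,
      Nat.factorization_eq_zero_of_not_dvd hidx, add_zero]
  have hPK : P ≤ K := hP.1.trans inf_le_right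
  have hPne : P ≠ ⊥ := fun e => by
    have h1 := card_sylowOf hP
    rw [e, Subgroup.card_bot] at h1
    have h2 := hp.factorization_pos_of_dvd Nat.card_pos.ne' hpd
    exact absurd h1.symm (Nat.one_lt_pow h2.ne' hp.one_lt).ne'
  have hPK' : SylowOf p P K := sylowOf_of_card hPK hP.2.1 (by rw [hfact, card_sylowOf hP])
  intro g hg
  have hmapK : P.map (MulAut.conj g).toMonoidHom ≤ K := by
    rintro _ ⟨a, ha, rfl⟩
    exact conj_mem_cenInv hg (hPK ha)
  have hP' : SylowOf p (P.map (MulAut.conj g).toMonoidHom) K := sylowOf_of_card hmapK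
    (hP.2.1.map _) (by
      rw [hfact, Subgroup.card_map_of_injective (MulAut.conj g).injective, card_sylowOf hP])
  obtain ⟨k, hk, hkP⟩ := exists_conj_sylowOf hP' hPK'
  have hnorm : k * g ∈ Subgroup.normalizer (P : Set G) := by
    refine Coprime.mem_normalizer_of_forall_conj fun a ha => ?_
    rw [hkP]
    exact ⟨g * a * g⁻¹, ⟨a, ha, rfl⟩, by simp [mul_assoc]⟩
  have hkgc : (k * g) • c = c := by rw [mul_smul, hg, hk.1]
  have hw := smul_mem_fixSet hnorm (hzS hP.1)
  obtain ⟨⟨l, hl, hlz, -⟩⟩ : Nonempty (∃ l ∈ K, l • z = (k * g) • z ∧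
      l ∈ Subgroup.centralizer (P : Set G)) :=
    ⟨(hlift P hP.2.1 hPne hP.1).1 _ hw fun e => hzc (MulAction.injective (k * g) (e.trans hkgc.symm))⟩
  refine ⟨k⁻¹ * l, mul_mem (inv_mem hk) hl, l⁻¹ * (k * g), mem_two_iff.2 ⟨?_, ?_⟩, by group⟩
  · rw [mul_smul, hkgc, inv_smul_eq_iff]; exact hl.1.symm
  · rw [mul_smul, ← hlz, inv_smul_smul]

end CfsgLib.BenderComp
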