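import Mathlib

/-!
A solvable Hall subgroup of odd order whose fusion is controlled by centralising `2`-elements has a
normal complement (iterated transfer).
-/

set_option autoImplicit false
set_option linter.style.haveILetI false

namespace CfsgLib.BenderComp

open Subgroup MonoidHom MulAction

universe u

variable {A : Type u} [Group A]

/-- A subgroup containing all elements of prime power order is everything. -/
theorem eq_top_of_primePow_mem [Finite A] (S : Subgroup A)
    (h : ∀ (p n : ℕ), p.Prime → ∀ x : A, x ^ p ^ n = 1 → x ∈ S) : S = ⊤ := by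
  refine Subgroup.eq_top_of_card_eq S (Nat.dvd_antisymm S.card_subgroup_dvd_card ?_)
  rw [Nat.dvd_iff_prime_pow_dvd_dvd]
  intro p k hp hk
  haveI : Fact p.Prime := ⟨hp⟩
  obtain ⟨P, hP⟩ := Sylow.exists_subgroup_card_pow_prime p hk
  rw [← hP]
  refine Subgroup.card_dvd_of_le fun x hx => h p k hp x ?_
  have h1 := orderOf_dvd_natCard (⟨x, hx⟩ : P)
  rw [hP, Subgroup.orderOf_mk] at h1
  exact orderOf_dvd_iff_pow_eq_one.1 h1

/-- A solvable Hall subgroup of odd order, whose prime power elements are only fused by products of a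
centralising `2`-element and one of its own elements, has a normal complement. -/
theorem exists_complement [Finite A] (D : Subgroup A) (hsolv : Group.IsSolvable D)
    (hodd : Odd (Nat.card D)) (hcop : (Nat.card D).Coprime D.index)
    (hctrl : ∀ x ∈ D, x ≠ 1 → (∃ p n : ℕ, p.Prime ∧ x ^ p ^ n = 1) → ∀ a : A, a * x * a⁻¹ ∈ D →
      ∃ g : A, Commute g x ∧ (∃ k : ℕ, g ^ 2 ^ k = 1) ∧ a * g ∈ D) :
    ∃ N : Subgroup A, N.Normal ∧ N ⊓ D = ⊥ ∧ ∀ a : A, ∃ n ∈ N, ∃ d ∈ D, a = n * d := by
  classical
  suffices key : ∀ (m : ℕ) (B : Subgroup A), Nat.card ↥(B ⊓ D) ≤ m →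
      (∀ x : A, (orderOf x).Coprime (Nat.card D) → x ∈ B) →
      (∀ a : A, ∃ n ∈ B, ∃ d ∈ D, a = n * d) →
      ∃ N : Subgroup A, N ⊓ D = ⊥ ∧ (∀ x : A, (orderOf x).Coprime (Nat.card D) → x ∈ N) ∧
        ∀ a : A, ∃ n ∈ N, ∃ d ∈ D, a = n * d by
    obtain ⟨N, hN1, hN2, hN3⟩ := key _ ⊤ le_rfl (fun x _ => mem_top x)
      fun a => ⟨a, mem_top a, 1, D.one_mem, (mul_one a).symm⟩
    have hcard : Nat.card N * Nat.card D = Nat.card A := by
      rw [← Nat.card_prod]
      refine Nat.card_congr (Equiv.ofBijective (fun q : N × D => (q.1 : A) * q.2) ⟨?_, ?_⟩)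
      · rintro ⟨n, d⟩ ⟨n', d'⟩ he
        have hmem : (n' : A)⁻¹ * n = d' * (d : A)⁻¹ := by
          rw [eq_mul_inv_iff_mul_eq, mul_assoc, inv_mul_eq_iff_eq_mul]; exact he
        have h1 : (n' : A)⁻¹ * n ∈ N ⊓ D := ⟨N.mul_mem (N.inv_mem n'.2) n.2,
          hmem ▸ D.mul_mem d'.2 (D.inv_mem d.2)⟩
        rw [hN1, mem_bot] at h1
        rw [h1, eq_comm, mul_inv_eq_one] at hmem
        rw [inv_mul_eq_one] at h1
        exact Prod.ext (Subtype.ext h1.symm) (Subtype.ext hmem.symm)
      · intro a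
        obtain ⟨n, hn, d, hd, rfl⟩ := hN3 a
        exact ⟨(⟨n, hn⟩, ⟨d, hd⟩), rfl⟩
    have hNcop : (Nat.card N).Coprime (Nat.card D) := by
      have h1 : Nat.card N = D.index := Nat.eq_of_mul_eq_mul_right (Nat.card_pos (α := D))
        (hcard.trans (D.index_mul_card).symm)
      rw [h1]; exact hcop.symm
    refine ⟨N, ⟨fun x hx a => hN2 _ ?_⟩, hN1, hN3⟩
    rw [show a * x * a⁻¹ = MulAut.conj a x from rfl, MulEquiv.orderOf_eq]
    exact hNcop.coprime_dvd_left (Subgroup.orderOf_dvd_natCard N hx)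
  intro m
  induction m with
  | zero => intro B hB; exact absurd hB (Nat.not_le.2 Nat.card_pos)
  | succ m ih =>
    intro B hB hBc hBs
    by_cases hbot : B ⊓ D = ⊥
    · exact ⟨B, hbot, hBc, hBs⟩
    set H : Subgroup B := D.subgroupOf B with hH
    have hHD : ∀ x : B, x ∈ H ↔ (x : A) ∈ D := fun x => mem_subgroupOf
    have hHcard : Nat.card H = Nat.card ↥(B ⊓ D) :=
      Nat.card_congr
        ⟨fun x => ⟨((x : B) : A), (x : B).2, (hHD _).1 x.2⟩,
          fun x => ⟨⟨(x : A), x.2.1⟩, (hHD _).2 x.2.2⟩, fun _ => rfl, fun _ => rfl⟩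
    haveI hHs : Group.IsSolvable H :=
      Group.isSolvable_of_isSolvable_injective (f := ((B.subtype.comp H.subtype).codRestrict D
        fun x => (hHD _).1 x.2))
        (fun x y e => Subtype.ext (Subtype.ext (congrArg (fun z : D => (z : A)) e)))
    have hHidx : H.index = D.index := by
      refine Nat.card_congr (Equiv.ofBijective
        (Quotient.map' (fun b : B => (b : A)) fun x y hxy => ?_) ⟨?_, ?_⟩)
      · rw [QuotientGroup.leftRel_apply] at hxy ⊢
        exact (hHD _).1 hxy
      · intro x y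
        refine Quotient.inductionOn₂' x y fun x y hxy => ?_
        rw [Quotient.map'_mk'', Quotient.map'_mk'', Quotient.eq'', QuotientGroup.leftRel_apply] at hxy
        exact Quotient.eq''.2 (QuotientGroup.leftRel_apply.2 ((hHD _).2 hxy))
      · intro q
        refine Quotient.inductionOn' q fun a => ?_
        obtain ⟨n, hn, d, hd, rfl⟩ := hBs a
        refine ⟨Quotient.mk'' ⟨n, hn⟩, ?_⟩
        rw [Quotient.map'_mk'', Quotient.eq'', QuotientGroup.leftRel_apply, inv_mul_cancel_left]
        exact hd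
    have hHdvd : Nat.card H ∣ Nat.card D := hHcard ▸ card_dvd_of_le inf_le_right
    have hcop' : (Nat.card (Abelianization H)).Coprime H.index := by
      rw [hHidx]
      exact hcop.coprime_dvd_left ((commutator H).index_dvd_card.trans hHdvd)
    letI : H.FiniteIndex := inferInstance
    set τ : B →* Abelianization H := MonoidHom.transfer (H := H) (Abelianization.of : H →* _) with hτ
    -- on the elements of prime power order the transfer is a power
    have hpow : ∀ x : H, τ x = Abelianization.of x ^ H.index := by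
      have he : (τ.comp H.subtype) = (powMonoidHom H.index).comp Abelianization.of := by
        refine MonoidHom.eq_of_eqOn_dense (s := {x : H | ∃ p n : ℕ, p.Prime ∧ x ^ p ^ n = 1}) ?_ ?_
        · refine eq_top_of_primePow_mem _ fun p n hp x hx => subset_closure ⟨p, n, hp, hx⟩
        intro x ⟨p, n, hp, hx⟩
        haveI := Fintype.ofFinite (Quotient (orbitRel (Subgroup.zpowers (x : B)) (B ⧸ H)))
        show τ x = Abelianization.of x ^ H.index
        rw [hτ, MonoidHom.transfer_eq_prod_quotient_orbitRel_zpowers_quot,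
          index_eq_sum_minimalPeriod H (x : B), ← Finset.prod_pow_eq_pow_sum]
        refine Finset.prod_congr rfl fun q _ => ?_
        set g₀ : B := q.out.out
        set k := Function.minimalPeriod ((x : B) • ·) q.out
        rw [← map_pow]
        have hmem : g₀⁻¹ * (x : B) ^ k * g₀ ∈ H :=
          QuotientGroup.out_conj_pow_minimalPeriod_mem H (x : B) q.out
        show Abelianization.of (⟨_, hmem⟩ : H) = Abelianization.of (x ^ k)
        by_cases h1 : x ^ k = 1
        · rw [h1, map_one]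
          have : (⟨_, hmem⟩ : H) = 1 := Subtype.ext (by
            show g₀⁻¹ * (x : B) ^ k * g₀ = 1
            rw [← SubmonoidClass.coe_pow, h1, OneMemClass.coe_one, mul_one, inv_mul_cancel])
          rw [this, map_one]
        set y : A := (((x ^ k : H) : B) : A) with hy
        obtain ⟨g, hgy, ⟨j, hj⟩, hgD⟩ := hctrl y ((hHD _).1 (x ^ k).2)
          (fun e => h1 (Subtype.ext (Subtype.ext e)))
          ⟨p, n, hp, by
            rw [hy, ← SubmonoidClass.coe_pow, ← SubmonoidClass.coe_pow, ← pow_mul, mul_comm,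
              pow_mul, hx, one_pow, OneMemClass.coe_one, OneMemClass.coe_one]⟩
          ((g₀ : A)⁻¹) (by
            rw [inv_inv, hy]
            simpa using (hHD _).1 hmem)
        have hgB : g ∈ B := hBc g (by
          refine Nat.Coprime.coprime_dvd_left (orderOf_dvd_of_pow_eq_one hj) ?_
          exact (Nat.coprime_two_left.2 hodd).pow_left j)
        set d : H := ⟨⟨(g₀ : A)⁻¹ * g, B.mul_mem (B.inv_mem g₀.2) hgB⟩, (hHD _).2 hgD⟩
        have hd : (⟨_, hmem⟩ : H) = d * x ^ k * d⁻¹ := Subtype.ext (Subtype.ext (by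
          show (g₀ : A)⁻¹ * (x : B) ^ k * g₀ = (g₀ : A)⁻¹ * g * y * ((g₀ : A)⁻¹ * g)⁻¹
          rw [mul_assoc _ g y, hgy.eq, hy]
          simp [mul_assoc]))
        rw [hd, map_mul, map_mul, map_inv, mul_comm (Abelianization.of d), mul_inv_cancel_right]
      exact fun x => DFunLike.congr_fun he x
    have hsurj : ∀ c : Abelianization H, ∃ x : H, τ x = c := fun c => by
      obtain ⟨c', rfl⟩ := (powCoprime hcop').surjective c
      obtain ⟨x, rfl⟩ := QuotientGroup.mk'_surjective (commutator H) c'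
      exact ⟨x, hpow x⟩
    set B' : Subgroup A := τ.ker.map B.subtype with hB'
    have hlt : Nat.card ↥(B' ⊓ D) < Nat.card ↥(B ⊓ D) := by
      have hne : H ≠ ⊥ := fun e => by
        apply hbot
        rw [eq_bot_iff]
        intro x hx
        have : (⟨x, hx.1⟩ : B) ∈ H := (hHD _).2 hx.2
        rw [e, mem_bot] at this
        exact mem_bot.2 (congrArg Subtype.val this)
      haveI : Nontrivial H := H.nontrivial_iff_ne_bot.2 hne
      obtain ⟨x, hx⟩ : ∃ x : H, Abelianization.of x ≠ 1 := by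
        obtain ⟨x, -, hx⟩ := SetLike.exists_of_lt (Group.IsSolvable.commutator_lt_top_of_nontrivial H)
        exact ⟨x, fun e => hx ((QuotientGroup.eq_one_iff x).1 e)⟩
      have hxτ : τ x ≠ 1 := fun e => hx ((powCoprime hcop').injective (by
        show Abelianization.of x ^ H.index = 1 ^ H.index
        rw [← hpow, e, one_pow]))
      refine Set.ncard_lt_ncard (s := ((B' ⊓ D : Subgroup A) : Set A)) ?_ (Set.toFinite _)
      refine Set.ssubset_iff_exists.2 ⟨fun z hz => ?_, (x : B), ⟨(x : B).2, (hHD _).1 x.2⟩, ?_⟩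
      · obtain ⟨⟨w, -, rfl⟩, hzD⟩ := hz
        exact ⟨w.2, hzD⟩
      · rintro ⟨⟨w, hw, hwx⟩, -⟩
        rw [show w = (x : B) from Subtype.ext hwx] at hw
        exact hxτ hw
    refine ih B' (by omega) (fun x hx => ?_) fun a => ?_
    · refine ⟨⟨x, hBc x hx⟩, ?_, rfl⟩
      rw [SetLike.mem_coe, MonoidHom.mem_ker]
      refine orderOf_eq_one_iff.1 (Nat.eq_one_of_dvd_coprimes hx ?_ ?_)
      · exact (orderOf_map_dvd τ ⟨x, hBc x hx⟩).trans (by rw [Subgroup.orderOf_mk])
      · exact (_root_.orderOf_dvd_natCard _).trans ((commutator H).index_dvd_card.trans hHdvd)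
    · obtain ⟨n, hn, d, hd, rfl⟩ := hBs a
      obtain ⟨e, he⟩ := hsurj (τ ⟨n, hn⟩)
      refine ⟨n * ((e : B) : A)⁻¹, ⟨⟨n, hn⟩ * (e : B)⁻¹, ?_, rfl⟩, ((e : B) : A) * d,
        D.mul_mem ((hHD _).1 e.2) hd, by group⟩
      rw [SetLike.mem_coe, MonoidHom.mem_ker, map_mul, map_inv, he, mul_inv_cancel]

end CfsgLib.BenderComp
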