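import Cfsg.Agent.Lib.BenderComp.Count
import Cfsg.Agent.Lib.BenderComp.HallTransfer
import Cfsg.Agent.Lib.BenderQ.SingerConj
import Cfsg.Agent.Lib.CoreSplit.SmallRep
import Cfsg.Agent.Lib.Frobenius.FPFThompson
import Cfsg.Agent.Lib.Coprime.HyperplaneGeneration

/-!
Faithful two point stabilisers: a semiregular abelian normal subgroup, elements of prime order with
a single fixed involution, and otherwise a normal complement.
-/

set_option autoImplicit false
set_option linter.style.haveILetI false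

namespace CfsgLib.BenderComp

open CfsgLib.Involutions CfsgLib.OddOrder CfsgLib.BenderTrans MulAction Subgroup

universe u

variable {G : Type u} [Group G] {Ω : Type u} [MulAction G Ω] [Finite G] [Finite Ω] (C : Cx G Ω)
include C

omit [Finite Ω] in
/-- A normal abelian subgroup of a faithful two point stabiliser is semiregular on the involutions. -/
theorem Cx.semiregular {c z : Ω} (hzc : z ≠ c)
    (hfaith : ∀ d ∈ BenderTrans.two G c z, (∀ t ∈ invAt G c, Commute d t) → d = 1)
    {L : Subgroup G} (hL : L ≤ BenderTrans.two G c z)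
    (hLn : BenderTrans.two G c z ≤ Subgroup.normalizer (L : Set G))
    (hab : ∀ a ∈ L, ∀ b ∈ L, Commute a b) :
    ∀ a ∈ L, ∀ t ∈ invAt G c, Commute a t → a = 1 := by
  classical
  set cs : G → Subgroup G := fun t => L ⊓ Subgroup.centralizer ({t} : Set G) with hcs
  have hmem : ∀ {a t : G}, a ∈ cs t ↔ a ∈ L ∧ Commute a t := fun {a t} => by
    simp only [hcs, Subgroup.mem_inf, Subgroup.mem_centralizer_singleton_iff]
    exact Iff.rfl
  have hcard : ∀ u ∈ invAt G c, ∀ w ∈ invAt G c, Nat.card (cs u) ≤ Nat.card (cs w) := by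
    intro u hu w hw
    obtain ⟨d, hd, rfl⟩ := C.base.exists_conj_invAt hzc.symm hu hw
    refine Nat.card_le_card_of_injective (fun a => (⟨d * a * d⁻¹, hmem.2
      ⟨Coprime.mem_normalizer_conj (hLn hd) (hmem.1 a.2).1,
        by simpa only [MulEquiv.coe_toMonoidHom, MulAut.conj_apply] using
          (hmem.1 a.2).2.map (MulAut.conj d).toMonoidHom⟩⟩ : cs (d * u * d⁻¹)))
      fun a b e => Subtype.ext (mul_left_cancel (mul_right_cancel (congrArg Subtype.val e)))
  have hconj : ∀ {a t : G}, a ∈ L → t ∈ invAt G c → a * t * a⁻¹ ∈ invAt G c := fun {a t} ha ht => by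
    have h1 := conj_mem_invAt (g := a) ht
    rwa [(mem_two_iff.1 (hL ha)).1] at h1
  -- all point stabilisers in `L` are the same
  have hsame : ∀ u ∈ invAt G c, ∀ w ∈ invAt G c, cs u ≤ cs w := by
    intro u hu w hw
    rcases eq_or_ne u w with rfl | huw
    · exact le_rfl
    have huw2 : u * w ∈ invAt G c := by
      refine ⟨orderOf_eq_two_iff_mul.2 ⟨fun e => huw ?_, ?_⟩, by rw [mul_smul, hw.2, hu.2]⟩
      · rw [eq_inv_of_mul_eq_one_left e, inv_eq_self_of_involution hw.1]
      · calc u * w * (u * w) = u * (w * u) * w := by group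
          _ = (u * u) * (w * w) := by rw [(C.comm c w hw u hu).eq]; group
          _ = 1 := by rw [mul_self_eq_one hu.1, mul_self_eq_one hw.1, one_mul]
    intro h hh
    refine hmem.2 ⟨(hmem.1 hh).1, ?_⟩
    set w' := h * w * h⁻¹ with hw'
    have hw'2 : w' ∈ invAt G c := hconj (hmem.1 hh).1 hw
    by_contra hne
    have hδ : w * w' ∈ invAt G c := by
      refine ⟨orderOf_eq_two_iff_mul.2 ⟨fun e => hne ?_, ?_⟩, by rw [mul_smul, hw'2.2, hw.2]⟩
      · have h1 : w' = w := by
          rw [eq_inv_of_mul_eq_one_right e, inv_eq_self_of_involution hw.1]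
        exact mul_inv_eq_iff_eq_mul.1 (hw' ▸ h1)
      · calc w * w' * (w * w') = w * (w' * w) * w' := by group
          _ = (w * w) * (w' * w') := by rw [(C.comm c w' hw'2 w hw).eq]; group
          _ = 1 := by rw [mul_self_eq_one hw.1, mul_self_eq_one hw'2.1, one_mul]
    have hsub1 : cs w ≤ cs (w * w') := fun a ha => hmem.2 ⟨(hmem.1 ha).1, by
      refine (hmem.1 ha).2.mul_right ?_
      have h1 : Commute a h := hab a (hmem.1 ha).1 h (hmem.1 hh).1
      exact (h1.mul_right (hmem.1 ha).2).mul_right h1.inv_right⟩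
    have hsub2 : cs (u * w) ≤ cs (w * w') := fun a ha => hmem.2 ⟨(hmem.1 ha).1, by
      have h1 : Commute a h := hab a (hmem.1 ha).1 h (hmem.1 hh).1
      have h2 : Commute a (h * (u * w) * h⁻¹) :=
        (h1.mul_right (hmem.1 ha).2).mul_right h1.inv_right
      have h3 : h * (u * w) * h⁻¹ = u * w' := by
        calc h * (u * w) * h⁻¹ = (h * u) * w * h⁻¹ := by group
          _ = _ := by rw [(hmem.1 hh).2.eq, hw']; group
      have h4 : (u * w) * (u * w') = w * w' := by
        calc (u * w) * (u * w') = u * (w * u) * w' := by group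
          _ = (u * u) * (w * w') := by rw [(C.comm c w hw u hu).eq]; group
          _ = _ := by rw [mul_self_eq_one hu.1, one_mul]
      rw [← h4]
      exact (hmem.1 ha).2.mul_right (h3 ▸ h2)⟩
    have e1 := Subgroup.eq_of_le_of_card_ge hsub1 (hcard _ hδ _ hw)
    have e2 := Subgroup.eq_of_le_of_card_ge hsub2 (hcard _ hδ _ huw2)
    have hsub3 : cs w ≤ cs u := fun a ha => hmem.2 ⟨(hmem.1 ha).1, by
      have h1 : a ∈ cs (u * w) := by rw [e2, ← e1]; exact ha
      have h2 := (hmem.1 h1).2.mul_right (hmem.1 ha).2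
      rwa [mul_assoc, mul_self_eq_one hw.1, mul_one] at h2⟩
    have e3 := Subgroup.eq_of_le_of_card_ge hsub3 (hcard _ hu _ hw)
    rw [← e3] at hh
    exact hne (hmem.1 hh).2
  intro a ha t ht hat
  exact hfaith a (hL ha) fun w hw => (hmem.1 (hsame t ht w hw (hmem.2 ⟨ha, hat⟩))).2

omit [Finite Ω] in
/-- A nontrivial normal subgroup of the two point stabiliser semiregular on the involutions. -/
theorem Cx.exists_semiregular {c z : Ω} (hzc : z ≠ c)
    (hfaith : ∀ d ∈ BenderTrans.two G c z, (∀ t ∈ invAt G c, Commute d t) → d = 1) :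
    ∃ L : Subgroup G, L ≠ ⊥ ∧ L ≤ BenderTrans.two G c z ∧
      BenderTrans.two G c z ≤ Subgroup.normalizer (L : Set G) ∧
      ∀ a ∈ L, ∀ t ∈ invAt G c, Commute a t → a = 1 := by
  classical
  set D := BenderTrans.two G c z with hD
  haveI hs : Group.IsSolvable D := C.solv D inferInstance inferInstance (C.base.odd_two hzc.symm)
  have hne : derivedSeries D 0 ≠ ⊥ := by
    obtain ⟨s, t, hs, ht, hst, -⟩ := C.base.exists_invAt_ne C.four c
    obtain ⟨d, hd, hds⟩ := C.base.exists_conj_invAt hzc.symm hs ht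
    rw [derivedSeries_zero]
    intro e
    refine hst ?_
    have : (⟨d, hd⟩ : D) = 1 := Subgroup.mem_bot.1 (e ▸ Subgroup.mem_top _)
    rw [← hds, show d = 1 from congrArg Subtype.val this]
    group
  obtain ⟨n, hn⟩ := hs.solvable
  have hex : ∃ k, derivedSeries D k ≠ ⊥ ∧ derivedSeries D (k + 1) = ⊥ := by
    by_contra hcon
    push Not at hcon
    have : ∀ k, derivedSeries D k ≠ ⊥ := fun k => by
      induction k with
      | zero => exact hne
      | succ k ih => exact hcon k ih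
    exact this n hn
  obtain ⟨k, hk, hk1⟩ := hex
  refine ⟨derivedOf D k, ?_, derivedOf_le D k, fun g hg =>
    mem_normalizer_derivedOf (Subgroup.le_normalizer hg) k,
    C.semiregular hzc hfaith (derivedOf_le D k) (fun g hg =>
      mem_normalizer_derivedOf (Subgroup.le_normalizer hg) k) fun a ha b hb => ?_⟩
  · rw [derivedOf_eq, ne_eq, Subgroup.map_eq_bot_iff_of_injective _ Subtype.val_injective]
    exact hk
  · rw [derivedOf_eq] at ha hb
    obtain ⟨a, ha', rfl⟩ := ha
    obtain ⟨b, hb', rfl⟩ := hb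
    have h1 := Subgroup.commutator_mem_commutator ha' hb'
    rw [← derivedSeries_succ, hk1, Subgroup.mem_bot] at h1
    exact (commutatorElement_eq_one_iff_commute.1 h1).map D.subtype

/-- An element of prime order fixing three points and commuting with at most one involution at `c`
forces `2 ^ p - 1` involutions there. -/
theorem Cx.card_of_bad {c z : Ω} (hzc : z ≠ c)
    (hfaith : ∀ d ∈ BenderTrans.two G c z, (∀ t ∈ invAt G c, Commute d t) → d = 1)
    {p : ℕ} [hp : Fact p.Prime] {x : G} (hx : x ∈ BenderTrans.two G c z) (hxo : orderOf x = p)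
    (h3 : 2 < (fixSet Ω (Subgroup.zpowers x)).ncard)
    (hbad : ∀ s ∈ invAt G c, ∀ t ∈ invAt G c, Commute x s → Commute x t → s = t) :
    p ≠ 2 ∧ (invAt G c).ncard + 1 = 2 ^ p := by
  classical
  set D := BenderTrans.two G c z with hD
  set S := Subgroup.zpowers x with hS
  have hSD : S ≤ D := Subgroup.zpowers_le.2 hx
  have hSp : IsPGroup p S := IsPGroup.of_card (n := 1) (by rw [hS, Nat.card_zpowers, hxo, pow_one])
  have hp2 : p ≠ 2 := fun e => C.base.not_involution_of_two hzc.symm hx (hxo.trans e)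
  have hpm : ¬ p ∣ (invAt G c).ncard := by
    intro hd
    have X : Ctx G Ω p := ⟨C.base, C.faith, C.four, C.concl,
      fun y => C.base.ncard_invAt_eq y c ▸ hd, C.solv⟩
    obtain ⟨⟨i, hi, j, hj, hio, hjo, hij, hco⟩, hcen⟩ := X.lineFix (C.central p) hSp h3
    obtain ⟨d, hd'⟩ := C.base.exists_fix i hio
    have hjd : j • d = d := C.base.fix_of_commute ⟨hio, hd'⟩ hco.symm
    have hcC : c ∈ centres Ω (Subgroup.centralizer (S : Set G)) :=
      hcen ▸ fun g hg => (mem_two_iff.1 (hSD hg)).1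
    have hcomm : ∀ {g : G}, g ∈ Subgroup.centralizer (S : Set G) → Commute x g := fun hg =>
      Subgroup.mem_centralizer_iff.1 hg x (Subgroup.mem_zpowers x)
    rcases eq_or_ne d c with rfl | hdc
    · exact hij (hbad i ⟨hio, hd'⟩ j ⟨hjo, hjd⟩ (hcomm hi) (hcomm hj))
    obtain ⟨r, hrM, hr⟩ := C.base.exists_swap_centres (mem_centres hi ⟨hio, hd'⟩) hcC hdc
    have h1 := conj_mem_invAt (g := r) (show i ∈ invAt G d from ⟨hio, hd'⟩)
    have h2 := conj_mem_invAt (g := r) (show j ∈ invAt G d from ⟨hjo, hjd⟩)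
    rw [hr.2] at h1 h2
    have := hbad _ h1 _ h2 (hcomm (mul_mem (mul_mem hrM hi) (inv_mem hrM)))
      (hcomm (mul_mem (mul_mem hrM hj) (inv_mem hrM)))
    exact hij (mul_left_cancel (mul_right_cancel this))
  obtain ⟨u, hu, huS⟩ := exists_commute_of_not_dvd hSp (A := invAt G c) (fun g hg t ht => by
    have h1 := conj_mem_invAt (g := g) ht
    rwa [(mem_two_iff.1 (hSD hg)).1] at h1) hpm
  have hxu : Commute x u := huS x (Subgroup.mem_zpowers x)
  obtain ⟨L, hLne, hLD, hLn, hfree⟩ := C.exists_semiregular hzc hfaith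
  have hpL : ¬ p ∣ Nat.card L := by
    intro hd
    obtain ⟨l, hl⟩ := exists_prime_orderOf_dvd_card' (G := L) p hd
    have hl' : orderOf (l : G) = p := by rw [Subgroup.orderOf_coe, hl]
    obtain ⟨a, ha, hal⟩ := exists_commute_of_not_dvd
      (S := Subgroup.zpowers (l : G))
      (IsPGroup.of_card (n := 1) (by rw [Nat.card_zpowers, hl', pow_one])) (A := invAt G c)
      (fun g hg t ht => by
        have h1 := conj_mem_invAt (g := g) ht
        rwa [(mem_two_iff.1 (hLD ((Subgroup.zpowers_le.2 l.2) hg))).1] at h1) hpm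
    rw [hfree _ l.2 a ha (hal _ (Subgroup.mem_zpowers _)), orderOf_one] at hl'
    exact hp.out.one_lt.ne hl'
  -- the automorphisms of the elementary abelian group
  set E := BenderQ.invSub c (C.comm c) with hE
  set φ : D →* MulAut E :=
    (BenderQ.rho (C.comm c)).comp (Subgroup.inclusion (inf_le_left : D ≤ stabilizer G c)) with hφ
  have hφapp : ∀ (d : D) (f : E), ((φ d f : E) : G) = (d : G) * f * (d : G)⁻¹ := fun _ _ => rfl
  have hφinj : Function.Injective φ := by
    rw [injective_iff_map_eq_one]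
    intro d hd
    refine Subtype.ext (hfaith d d.2 fun t ht => ?_)
    have h1 := congrArg Subtype.val (DFunLike.congr_fun hd ⟨t, Or.inr ht⟩)
    rw [hφapp] at h1
    exact mul_inv_eq_iff_eq_mul.1 h1
  have hinv : ∀ f : E, f ≠ 1 → (f : G) ∈ invAt G c := fun f hf =>
    f.2.resolve_left fun e => hf (Subtype.ext e)
  have hcommφ : ∀ (d : D) (f : E), φ d f = f ↔ Commute (d : G) (f : G) := fun d f => by
    rw [Subtype.ext_iff, hφapp, mul_inv_eq_iff_eq_mul]; exact Iff.rfl
  set U : Subgroup (MulAut E) := (L.subgroupOf D).map φ with hU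
  have hUcard : Nat.card U = Nat.card L := by
    rw [hU, Subgroup.card_map_of_injective hφinj,
      Nat.card_congr (Subgroup.subgroupOfEquivOfLe hLD).toEquiv]
  have hEsq := BenderQ.invSub_sq (C.comm c)
  haveI : Group.IsSolvable E :=
    Group.isSolvable_of_comm fun a b => BenderQ.invSub_comm (C.comm c) a b
  have hEpow : ∃ k, Nat.card E = 2 ^ k := by
    haveI := Fact.mk Nat.prime_two
    exact IsPGroup.iff_card.1 fun f => ⟨1, by rw [pow_one, pow_two]; exact hEsq f⟩
  obtain ⟨k, hk⟩ := hEpow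
  have hLodd : Odd (Nat.card L) :=
    (C.base.odd_two hzc.symm).of_dvd_nat (Subgroup.card_dvd_of_le hLD)
  have key := CoreSplit.card_eq_pow_of_frobenius (F := E) U (φ ⟨x, hx⟩) (q := p) ?_ ?_
    (hUcard ▸ hpL) ?_ ?_ ?_
  · have hfix : Nat.card {f : E // φ ⟨x, hx⟩ f = f} = 2 := by
      have e : {f : E | φ ⟨x, hx⟩ f = f} = {1, (⟨u, Or.inr hu⟩ : E)} := by
        ext f
        simp only [Set.mem_ofPred_eq, Set.mem_insert_iff, Set.mem_singleton_iff]
        constructor
        · intro hf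
          by_cases h1 : f = 1
          · exact Or.inl h1
          exact Or.inr (Subtype.ext (hbad _ (hinv f h1) u hu ((hcommφ _ f).1 hf) hxu))
        · rintro (rfl | rfl)
          · exact map_one _
          · exact (hcommφ _ _).2 hxu
      rw [show Nat.card {f : E // φ ⟨x, hx⟩ f = f} = ({f : E | φ ⟨x, hx⟩ f = f} : Set E).ncard from
        Nat.card_coe_set_eq _, e, Set.ncard_pair]
      intro e1
      exact ne_one_of_involution hu.1 (congrArg Subtype.val e1).symm
    rw [hfix, BenderQ.card_invSub] at key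
    exact ⟨hp2, key⟩
  · rw [orderOf_injective φ hφinj, Subgroup.orderOf_mk, hxo]
  · refine Coprime.mem_normalizer_of_forall_conj ?_
    rintro _ ⟨l, hl, rfl⟩
    refine ⟨⟨x, hx⟩ * l * (⟨x, hx⟩ : D)⁻¹, ?_, by rw [map_mul, map_mul, map_inv]⟩
    exact mem_subgroupOf.2 (Coprime.mem_normalizer_conj (hLn hx) (mem_subgroupOf.1 hl))
  · intro f hf
    by_contra hf1
    obtain ⟨l, hl, hl1⟩ := (Subgroup.bot_or_exists_ne_one L).resolve_left hLne
    exact hl1 (hfree l hl _ (hinv f hf1) ((hcommφ ⟨l, hLD hl⟩ f).1 (hf _ ⟨⟨l, hLD hl⟩, hl, rfl⟩)))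
  · rintro _ ⟨l, hl, rfl⟩ he
    have h1 : (⟨x, hx⟩ : D) * l = l * ⟨x, hx⟩ := hφinj (by rw [map_mul, map_mul]; exact he)
    have h2 : Commute x (l : G) := congrArg Subtype.val h1
    have h3 := conj_mem_invAt (g := (l : G)) hu
    rw [(mem_two_iff.1 l.2).1] at h3
    have h4 : Commute x ((l : G) * u * (l : G)⁻¹) := (h2.mul_right hxu).mul_right h2.inv_right
    have h5 := mul_inv_eq_iff_eq_mul.1 (hbad _ h3 u hu h4 hxu)
    rw [show l = 1 from Subtype.ext (hfree _ hl u hu h5), map_one]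
  · rw [hk, hUcard]
    exact (Nat.coprime_two_left.2 (hLodd.mul (hp.out.odd_of_ne_two hp2))).pow_left k

/-- Without elements of prime order with a single fixed involution the faithful two point stabiliser
has a normal complement in the point stabiliser, centralising the involutions. -/
theorem Cx.decomp_of_good {c z : Ω} (hzc : z ≠ c)
    (hfaith : ∀ d ∈ BenderTrans.two G c z, (∀ t ∈ invAt G c, Commute d t) → d = 1)
    (hgood : ∀ (p : ℕ) (x : G), p.Prime → x ∈ BenderTrans.two G c z → orderOf x = p →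
      2 < (fixSet Ω (Subgroup.zpowers x)).ncard →
      ∃ s ∈ invAt G c, ∃ t ∈ invAt G c, s ≠ t ∧ Commute x s ∧ Commute x t) :
    ∀ g ∈ stabilizer G c, ∃ k ∈ cenInv G c, ∃ d ∈ BenderTrans.two G c z, g = k * d := by
  classical
  set T := stabilizer G c with hT
  set D := BenderTrans.two G c z with hD
  have hDT : D ≤ T := inf_le_left
  have hodd := C.base.odd_two hzc.symm
  -- a prime order power
  have hpow : ∀ x : G, x ≠ 1 → ∀ p n : ℕ, p.Prime → x ^ p ^ n = 1 →
      ∃ l, orderOf (x ^ l) = p := by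
    intro x hx1 p n hp hxn
    obtain ⟨m, -, hm⟩ := (Nat.dvd_prime_pow hp).1 (orderOf_dvd_of_pow_eq_one hxn)
    have hm0 : m ≠ 0 := fun e => hx1 (orderOf_eq_one_iff.1 (by rw [hm, e, pow_zero]))
    exact ⟨orderOf x / p, orderOf_pow_orderOf_div (orderOf_pos x).ne' (hm ▸ dvd_pow_self p hm0)⟩
  have hfixpair : ∀ {S : Subgroup G}, S ≤ D → ¬ 2 < (fixSet Ω S).ncard →
      fixSet Ω S = {c, z} := by
    intro S hS h3
    refine (Set.eq_of_subset_of_ncard_le ?_ ?_ (Set.toFinite _)).symm
    · rintro _ (rfl | rfl)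
      · exact fun g hg => (mem_two_iff.1 (hS hg)).1
      · exact fun g hg => (mem_two_iff.1 (hS hg)).2
    · rw [Set.ncard_pair hzc.symm]; omega
  -- lifts for elements of prime power order
  have hlift : ∀ x ∈ D, x ≠ 1 → ∀ p n : ℕ, p.Prime → x ^ p ^ n = 1 → ∀ w ∈ fixSet Ω (Subgroup.zpowers x),
      w ≠ c → ∃ g ∈ T, Commute g x ∧ (∃ k : ℕ, g ^ 2 ^ k = 1) ∧ g • z = w := by
    intro x hx hx1 p n hp hxn w hw hwc
    haveI := Fact.mk hp
    obtain ⟨l, hl⟩ := hpow x hx1 p n hp hxn
    set S := Subgroup.zpowers (x ^ l) with hS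
    have hSx : S ≤ Subgroup.zpowers x := Subgroup.zpowers_le.2 (pow_mem (Subgroup.mem_zpowers x) l)
    have hSD : S ≤ D := hSx.trans (Subgroup.zpowers_le.2 hx)
    have hwS : w ∈ fixSet Ω S := fixSet_anti hSx hw
    by_cases h3 : 2 < (fixSet Ω S).ncard
    · obtain ⟨s, hs, t, ht, hst, hxs, hxt⟩ := hgood p _ hp (pow_mem hx l) hl h3
      have hcomS : ∀ {e : G}, Commute (x ^ l) e → ∀ g ∈ S, Commute g e := fun he g hg => by
        obtain ⟨i, rfl⟩ := Subgroup.mem_zpowers_iff.1 hg
        exact he.zpow_left i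
      obtain ⟨g, -, hgc, hgz, hgk, -, hgx⟩ := C.exists_lift
        (IsPGroup.of_card (p := p) (n := 1) (by rw [hS, Nat.card_zpowers, hl, pow_one]))
        (by rw [hS, ne_eq, Subgroup.zpowers_eq_bot]; intro e; rw [e, orderOf_one] at hl
            exact hp.ne_one hl.symm)
        hzc hSD hs ht hst (hcomS hxs) (hcomS hxt) hwS hwc
      refine ⟨g, hgc, (hgx x ?_ (mem_two_iff.1 hx).1 (mem_two_iff.1 hx).2
        (hw x (Subgroup.mem_zpowers x))).symm, hgk, hgz⟩
      refine Subgroup.le_normalizer (Subgroup.mem_centralizer_iff.2 fun g hg => ?_)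
      obtain ⟨i, rfl⟩ := Subgroup.mem_zpowers_iff.1 hg
      exact ((Commute.refl x).pow_left l).zpow_left i
    · rw [hfixpair hSD h3] at hwS
      obtain rfl : w = z := hwS.resolve_left hwc
      exact ⟨1, one_mem _, Commute.one_left x, ⟨0, one_pow _⟩, one_smul _ _⟩
  -- the two point stabiliser is a Hall subgroup
  have hHall : (Nat.card D).Coprime (D.relIndex T) := by
    refine Nat.coprime_of_dvd fun p hp hpD hpT => ?_
    haveI := Fact.mk hp
    obtain ⟨x, hx⟩ := exists_prime_orderOf_dvd_card' (G := D) p hpD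
    have hxo : orderOf (x : G) = p := by rw [Subgroup.orderOf_coe, hx]
    have hx1 : (x : G) ≠ 1 := fun e => hp.ne_one (by rw [← hxo, e, orderOf_one])
    have hSp : IsPGroup p (Subgroup.zpowers (x : G)) :=
      IsPGroup.of_card (n := 1) (by rw [Nat.card_zpowers, hxo, pow_one])
    have hSD : Subgroup.zpowers (x : G) ≤ D := Subgroup.zpowers_le.2 x.2
    have hp2 : p ≠ 2 := fun e => C.base.not_involution_of_two hzc.symm x.2 (hxo.trans e)
    refine not_dvd_relIndex (le_refl T) hSp (hSD.trans hDT) hzc (fun w hw hwc => ?_) ?_ hpT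
    · obtain ⟨g, hg, -, -, hgz⟩ := hlift x x.2 hx1 p 1 hp (by rw [pow_one, ← hxo, pow_orderOf_eq_one])
        w hw hwc
      exact ⟨g, hg, hgz⟩
    by_cases h3 : 2 < (fixSet Ω (Subgroup.zpowers (x : G))).ncard
    · obtain ⟨s, hs, t, ht, hst, hxs, hxt⟩ := hgood p _ hp x.2 hxo h3
      have hcomS : ∀ {e : G}, Commute (x : G) e → ∀ g ∈ Subgroup.zpowers (x : G), Commute g e :=
        fun he g hg => by obtain ⟨i, rfl⟩ := Subgroup.mem_zpowers_iff.1 hg; exact he.zpow_left i
      obtain ⟨i, hi⟩ := C.fix_count hSp (by rwa [ne_eq, Subgroup.zpowers_eq_bot]) hzc hSD hs ht hst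
        (hcomS hxs) (hcomS hxt)
      rw [hi]
      exact fun h => hp2 ((Nat.prime_dvd_prime_iff_eq hp Nat.prime_two).1 (hp.dvd_of_dvd_pow h))
    · rw [hfixpair hSD h3, show ({c, z} : Set Ω) \ {c} = {z} from ?_, Set.ncard_singleton]
      · exact hp.not_dvd_one
      ext y
      simp only [Set.mem_sdiff, Set.mem_insert_iff, Set.mem_singleton_iff]
      exact ⟨fun h => h.1.resolve_left h.2, fun h => ⟨Or.inr h, h ▸ hzc⟩⟩
  -- transfer
  set D' : Subgroup T := D.subgroupOf T with hD'
  have hD'card : Nat.card D' = Nat.card D := Nat.card_congr (Subgroup.subgroupOfEquivOfLe hDT).toEquiv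
  haveI : Group.IsSolvable D' := C.solv D' inferInstance inferInstance (hD'card ▸ hodd)
  obtain ⟨N, hNn, hND, hNsup⟩ := exists_complement D' inferInstance (hD'card ▸ hodd)
    (hD'card ▸ hHall) (by
      intro x hx hx1 ⟨p, n, hp, hxn⟩ a ha
      have hxD : (x : G) ∈ D := hx
      have hw : (a : G)⁻¹ • z ∈ fixSet Ω (Subgroup.zpowers (x : G)) := by
        have h1 : (x : G) ∈ stabilizer G ((a : G)⁻¹ • z) := by
          rw [mem_stabilizer_iff, smul_eq_iff_eq_inv_smul, eq_comm]
          have h2 : ((a : G) * x * (a : G)⁻¹) • z = z := (mem_two_iff.1 ha).2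
          calc (x : G)⁻¹ • (a : G)⁻¹ • z = (x : G)⁻¹ • (a : G)⁻¹ • ((a : G) * x * (a : G)⁻¹) • z := by
                rw [h2]
            _ = _ := by simp [smul_smul, mul_assoc]
        exact mem_fixSet_iff_le.2 (Subgroup.zpowers_le.2 h1)
      have hwc : (a : G)⁻¹ • z ≠ c := fun e => hzc (by
        rw [inv_smul_eq_iff] at e; exact e.trans a.2)
      obtain ⟨g, hg, hgx, ⟨k, hgk⟩, hgz⟩ := hlift x hxD (fun e => hx1 (Subtype.ext e)) p n hp
        (by simpa using congrArg Subtype.val hxn) _ hw hwc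
      refine ⟨⟨g, hg⟩, Subtype.ext hgx.eq, ⟨k, Subtype.ext (by simpa using hgk)⟩, ?_⟩
      exact mem_two_iff.2 ⟨by
        show ((a : G) * g) • c = c
        rw [mul_smul, show g • c = c from hg, show (a : G) • c = c from a.2], by
        show ((a : G) * g) • z = z
        rw [mul_smul, hgz, smul_inv_smul]⟩)
  obtain ⟨L, hLne, hLD, hLn, hfree⟩ := C.exists_semiregular hzc hfaith
  -- `N` centralises the involutions
  haveI : Group.IsSolvable D := C.solv D inferInstance inferInstance hodd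
  obtain ⟨a, haL, ha1⟩ := (Subgroup.bot_or_exists_ne_one L).resolve_left hLne
  obtain ⟨p, hp, hpa⟩ := Nat.exists_prime_and_dvd (show orderOf a ≠ 1 from fun e =>
    ha1 (orderOf_eq_one_iff.1 e))
  haveI := Fact.mk hp
  set x := a ^ (orderOf a / p) with hx
  have hxo : orderOf x = p := orderOf_pow_orderOf_div (orderOf_pos a).ne' hpa
  have hxD : x ∈ D := hLD (pow_mem haL _)
  have hx1 : x ≠ 1 := fun e => hp.ne_one (by rw [← hxo, e, orderOf_one])
  have hxfix : fixSet Ω (Subgroup.zpowers x) = {c, z} := hfixpair (Subgroup.zpowers_le.2 hxD)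
    fun h3 => by
      obtain ⟨s, hs, t, -, -, hxs, -⟩ := hgood p x hp hxD hxo h3
      exact hx1 (hfree x (pow_mem haL _) s hs hxs)
  set N' : Subgroup G := N.map T.subtype with hN'
  have hfpf : ∀ g ∈ N', Commute x g → g = 1 := by
    rintro _ ⟨g, hg, rfl⟩ hxg
    have h1 : (g : G) • z ∈ fixSet Ω (Subgroup.zpowers x) := mem_fixSet_iff_le.2 (Subgroup.zpowers_le.2 (by
      rw [mem_stabilizer_iff, smul_smul, show x * (g : G) = (g : G) * x from hxg, mul_smul,
        (mem_two_iff.1 hxD).2]))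
    rw [hxfix] at h1
    have h2 : (g : G) • z = z := h1.resolve_left fun e => hzc (MulAction.injective (g : G) (e.trans g.2.symm))
    have h3 : g ∈ N ⊓ D' := ⟨hg, mem_two_iff.2 ⟨g.2, h2⟩⟩
    rw [hND, Subgroup.mem_bot] at h3
    rw [h3]; rfl
  have hN'n : T ≤ Subgroup.normalizer (N' : Set G) := fun b hb =>
    Coprime.mem_normalizer_of_forall_conj fun g ⟨g', hg', hgg⟩ =>
      ⟨⟨b, hb⟩ * g' * (⟨b, hb⟩ : T)⁻¹, hNn.conj_mem g' hg' _, by rw [← hgg]; rfl⟩
  haveI hNnil : Group.IsNilpotent N' := Frobenius.Thompson.isNilpotent_of_element N' (h := x)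
    (hN'n (hDT hxD)) hp (by rw [← hxo, pow_orderOf_eq_one]) fun g hg e => hfpf g hg e
  have hcent : ∀ g ∈ N', g ∈ cenInv G c := by
    have hinvN : ∀ t ∈ invAt G c, t ∈ N' := by
      intro t ht
      obtain ⟨n, hn, d, hd, hnd⟩ := hNsup ⟨t, ht.2⟩
      haveI := hNn
      have hord : orderOf (⟨t, ht.2⟩ : T) = 2 := by rw [← Subgroup.orderOf_coe]; exact ht.1
      have h2 : ((⟨t, ht.2⟩ : T) : T ⧸ N) ^ 2 = 1 := by
        rw [← QuotientGroup.mk_pow, orderOf_dvd_iff_pow_eq_one.1 (dvd_of_eq hord), QuotientGroup.mk_one]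
      have h3 : ((⟨t, ht.2⟩ : T) : T ⧸ N) ^ Nat.card D' = 1 := by
        rw [hnd, QuotientGroup.mk_mul, (QuotientGroup.eq_one_iff n).2 hn, one_mul,
          ← QuotientGroup.mk_pow,
          orderOf_dvd_iff_pow_eq_one.1 (Subgroup.orderOf_dvd_natCard D' hd), QuotientGroup.mk_one]
      have h4 := pow_gcd_eq_one.mpr ⟨h2, h3⟩
      rw [(Nat.coprime_two_left.2 (hD'card ▸ hodd)).gcd_eq_one, pow_one] at h4
      exact ⟨_, (QuotientGroup.eq_one_iff _).1 h4, rfl⟩
    obtain ⟨s, -, hs, -⟩ := C.base.exists_invAt_ne C.four c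
    set E' : Subgroup N' := (BenderQ.invSub c (C.comm c)).subgroupOf N' with hE'
    haveI : E'.Normal := ⟨fun e he g => by
      obtain ⟨v, -, hv⟩ := g.2
      exact mem_subgroupOf.2 (BenderQ.conj_mem_invSub (C.comm c)
        (show ((g : N') : G) • c = c from hv ▸ v.2) (mem_subgroupOf.1 he))⟩
    have hE'ne : E' ≠ ⊥ := by
      intro e
      have h5 : (⟨s, hinvN s hs⟩ : N') ∈ E' := mem_subgroupOf.2 (Or.inr hs)
      rw [e, Subgroup.mem_bot] at h5
      exact ne_one_of_involution hs.1 (congrArg (fun y : N' => (y : G)) h5)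
    obtain ⟨i, hiE, hicen, hi1⟩ := Coprime39.exists_central_mem E' hE'ne
    have hi2 : (i : G) ∈ invAt G c :=
      (mem_subgroupOf.1 hiE).resolve_left fun e => hi1 (Subtype.ext e)
    intro g hg
    obtain ⟨v, hv, rfl⟩ := hg
    refine mem_cenInv.2 ⟨v.2, fun t ht => ?_⟩
    obtain ⟨d, hd, rfl⟩ := C.base.exists_conj_invAt hzc.symm hi2 ht
    have hmem := Coprime.mem_normalizer_conj (hN'n (inv_mem (hDT hd))) (show (v : G) ∈ N' from ⟨v, hv, rfl⟩)
    have h1 : Commute (d⁻¹ * v * d⁻¹⁻¹) (i : G) :=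
      congrArg Subtype.val (Subgroup.mem_center_iff.1 hicen ⟨_, hmem⟩)
    have h2 := h1.map (MulAut.conj d).toMonoidHom
    simpa [mul_assoc] using h2
  intro g hg
  obtain ⟨n, hn, d, hd, hnd⟩ := hNsup ⟨g, hg⟩
  exact ⟨n, hcent _ ⟨n, hn, rfl⟩, d, hd, congrArg Subtype.val hnd⟩

end CfsgLib.BenderComp
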